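import Cfsg.Agent.Lib.Chev.All
import Cfsg.Agent.Lib.Chev.NormalForm
import Cfsg.Agent.Lib.Chev.Char

/-!
The centraliser of a regular element of the split torus.
-/

set_option autoImplicit false

namespace Cfsg.Agent.KnownA.G2Torus

open Cfsg.Lie Cfsg.Agent.Lib.Chev
open scoped Matrix

variable {D : ChevalleyDatum} {T : Tables} {F : Type*} [Field F]

theorem centralizer_regular (G : Good D T) {d g : GL D.Idx F} (hd : d ∈ D.diagonalSubgroup F)
    {χ : ℕ → F} (hdv : (d : Matrix D.Idx D.Idx F) = dmat D χ)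
    (hinj : ∀ r s, r < D.nroots → s < D.nroots → χ r = χ s → r = s)
    (hone : ∀ r, r < D.nroots → χ r ≠ 1) (hg : g ∈ D.group F) (hc : g * d = d * g) :
    g ∈ D.diagonalSubgroup F := by
  have hpos : ∀ u ∈ D.posUnipotent F, d * u * d⁻¹ = u → u = 1 := by
    intro u hu he
    refine Units.ext (Matrix.ext fun x y => ?_)
    rw [Units.val_one]
    by_cases hxy : x = y
    · subst hxy; rw [G.pos_diag_entry hu, Matrix.one_apply_eq]
    rw [Matrix.one_apply_ne hxy]
    have h1 : ((d * u : GL D.Idx F) : Matrix D.Idx D.Idx F) x y =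
        ((u * d : GL D.Idx F) : Matrix D.Idx D.Idx F) x y := by rw [mul_inv_eq_iff_eq_mul.mp he]
    rw [Units.val_mul, Units.val_mul, hdv, dmat, Matrix.diagonal_mul, Matrix.mul_diagonal,
      mul_comm] at h1
    by_contra hne
    have h2 := mul_left_cancel₀ hne h1
    rcases x with i | r <;> rcases y with j | s
    · have := G.pos_raises hu (Sum.inl i) (Sum.inl j) (by
        show lev D (D.nroots + i.val) < lev D (D.nroots + j.val) + 1
        rw [Good.lev_h, Good.lev_h]; omega)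
      rw [Matrix.sub_apply, Matrix.one_apply_ne hxy, sub_zero] at this
      exact hne this
    · exact hone _ s.isLt h2.symm
    · exact hone _ r.isLt h2
    · exact hxy (congrArg Sum.inr (Fin.ext (hinj _ _ r.isLt s.isLt h2)))
  obtain ⟨b, hb, n, l, hl, u, hu, rfl⟩ := G.exists_normal_form hg
  have hn := G.monomial_of_rep hl
  set k := n * d * n⁻¹ with hk
  have hkd : k ∈ D.diagonalSubgroup F :=
    (Subgroup.mem_normalizer_iff.1 (G.monomial_le_normalizer hn) d).1 hd
  have hu2 : d⁻¹ * u * d ∈ G.USub F (flipSet D T l) := by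
    have := (Subgroup.mem_normalizer_iff.1 (G.diag_normalizes (flipSet D T l) (inv_mem hd)) u).1 hu
    simpa using this
  have he : d * b * n * u = b * k * n * (d⁻¹ * u * d) := by
    calc d * b * n * u = d * (b * n * u) := by group
      _ = (b * n * u) * d := hc.symm
      _ = _ := by rw [hk]; group
  have h2b : d * b ∈ D.borelSubgroup F := mul_mem (Subgroup.mem_sup_right hd) hb
  have hbk : b * k ∈ D.borelSubgroup F := mul_mem hb (Subgroup.mem_sup_right hkd)
  obtain ⟨e1, e1'⟩ := G.normal_form_unique hl h2b hbk hu hu2 he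
  have hu1 : u = 1 := hpos u (G.USub_le_pos _ hu) (by
    calc d * u * d⁻¹ = d * (d⁻¹ * u * d) * d⁻¹ := by rw [← e1']
      _ = u := by group)
  obtain ⟨v, hv, h, hh, rfl⟩ := G.mem_borel.1 hb
  have hv2 : d * v * d⁻¹ ∈ D.posUnipotent F :=
    (Subgroup.mem_normalizer_iff.1 (G.diag_normalizes_pos hd) v).1 hv
  have e2 : v⁻¹ * (d * v * d⁻¹) = k * d⁻¹ := by
    have c1 := G.diagonal_comm hh hkd
    have c2 := G.diagonal_comm hd hh
    calc v⁻¹ * (d * v * d⁻¹) = v⁻¹ * (d * (v * h)) * (h⁻¹ * d⁻¹) := by group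
      _ = h * k * (h⁻¹ * d⁻¹) := by rw [e1]; group
      _ = _ := by rw [c1]; group
  have hkd' : k * d⁻¹ = 1 := Subgroup.mem_bot.1 (G.pos_inf_diag (F := F) ▸ Subgroup.mem_inf.2
    ⟨e2 ▸ mul_mem (inv_mem hv) hv2, mul_mem hkd (inv_mem hd)⟩)
  have hv1 : v = 1 := hpos v hv (inv_mul_eq_one.1 (e2.trans hkd')).symm
  have hnd : n * d = d * n := by
    have h3 : k = d := mul_inv_eq_one.1 hkd'
    rw [hk] at h3
    exact mul_inv_eq_iff_eq_mul.mp h3
  have hw : ∀ r < D.nroots, wl T l r = r := by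
    intro r hr
    obtain ⟨c, hcn⟩ := G.rep_bas hl (F := F) hr
    have hwr := G.wl_lt hl.1 hr
    have h1 : ((n * d : GL D.Idx F) : Matrix D.Idx D.Idx F) *ᵥ bas D F r =
        ((d * n : GL D.Idx F) : Matrix D.Idx D.Idx F) *ᵥ bas D F r := by rw [hnd]
    rw [Units.val_mul, Units.val_mul, ← Matrix.mulVec_mulVec, ← Matrix.mulVec_mulVec, hdv,
      dmat_bas_root χ hr, Matrix.mulVec_smul, hcn, Matrix.mulVec_smul, dmat_bas_root χ hwr,
      smul_smul, smul_smul] at h1
    have hc0 : c ≠ 0 := by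
      rintro rfl
      have h4 : bas D F r = 0 := by
        have := congrArg (((n⁻¹ : GL D.Idx F) : Matrix D.Idx D.Idx F) *ᵥ ·) hcn
        simpa [Matrix.mulVec_mulVec] using this
      rw [show r = (⟨r, hr⟩ : Fin D.nroots).val from rfl, bas_inr] at h4
      simpa using congrFun h4 (Sum.inr ⟨r, hr⟩)
    rw [show wl T l r = (⟨wl T l r, hwr⟩ : Fin D.nroots).val from rfl, bas_inr] at h1
    have h5 := congrFun h1 (Sum.inr ⟨wl T l r, hwr⟩)
    simp only [Pi.smul_apply, Pi.single_eq_same, smul_eq_mul, mul_one] at h5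
    rw [mul_comm c] at h5
    exact (hinj _ _ hr hwr (mul_right_cancel₀ hc0 h5)).symm
  subst hv1; subst hu1
  rw [one_mul, mul_one]
  exact mul_mem hh (G.mem_diag_of_act_id hn (G.rep_act hl) hw)

end Cfsg.Agent.KnownA.G2Torus
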