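import Cfsg.Agent.Lib.KnownA.G2Torus.Hom
import Cfsg.Agent.Lib.KnownA.G2Torus.Cent
import Cfsg.Agent.Lib.Chev.Map
import Cfsg.Agent.Lib.Chev.TorusCard
import Cfsg.Agent.Lib.Classical.LinearSimple

/-!
The self-centralising cyclic subgroup of order `q² + q + 1` of `G₂(q)`.
-/

set_option autoImplicit false

namespace Cfsg.Agent.KnownA.G2Torus

open Cfsg.Lie Cfsg.Agent.Lib.Chev
open scoped Matrix

variable {F K : Type*} [Field F] [Field K]

theorem psiMat_natural (g gi : Matrix (Fin 3) (Fin 3) F) :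
    psiMat g gi (idxEquiv.symm (.inr (.inl 0))) (idxEquiv.symm (.inr (.inl 0))) = g 0 0 ∧
    ∀ i j, psiMat g gi (idxEquiv.symm (.inr (.inl i))) (idxEquiv.symm (.inr (.inl j))) = g i j := by
  refine ⟨by simp [psiMat, bigMat], fun i j => by simp [psiMat, bigMat]⟩

theorem psi_injective : Function.Injective (psi (F := F)) := by
  intro g h e
  refine Subtype.ext (Matrix.ext fun i j => ?_)
  have e' := congrArg (fun z : GL chevG2.Idx F => (z : Matrix chevG2.Idx chevG2.Idx F)
    (idxEquiv.symm (.inr (.inl i))) (idxEquiv.symm (.inr (.inl j)))) e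
  simpa only [psi_val, (psiMat_natural _ _).2] using e'

theorem inv_transvection {i j : Fin 3} (h : i ≠ j) (b : F) :
    (Matrix.SpecialLinearGroup.transvection h b)⁻¹ = Matrix.SpecialLinearGroup.transvection h (-b) := by
  refine inv_eq_of_mul_eq_one_right (Subtype.ext ?_)
  change Matrix.transvection i j b * Matrix.transvection i j (-b) = 1
  rw [Matrix.transvection_mul_transvection_same i j h, add_neg_cancel, Matrix.transvection_zero]

theorem psi_mem_group (g : Matrix.SpecialLinearGroup (Fin 3) F) : psi g ∈ chevG2.group F := by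
  have htop : (chevG2.group F).comap (psi (F := F)) = ⊤ := by
    refine Cfsg.Agent.Lib.Classical.SL_eq_top_of_transvection_mem fun i j h b => ?_
    obtain ⟨k, hk1, hk2⟩ : ∃ k, (pos k).1 = i ∧ (pos k).2 = j := by revert i j; decide
    subst hk1; subst hk2
    refine Subgroup.subset_closure ⟨rootOf k, b, ?_⟩
    rw [psi_val, inv_transvection]
    exact psiMat_transvection k b
  exact (htop ▸ Subgroup.mem_top g : g ∈ (chevG2.group F).comap (psi (F := F)))

/-- The exponents of the root values. -/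
def expo (q : ℤ) : Fin 12 → ℤ :=
  ![-2 - q, -2 * q - 1, -1 - q, -1, -q, q - 1, 1 - q, q, 1, 1 + q, 2 * q + 1, q + 2]

theorem expo_injective {q : ℕ} (hq : 3 ≤ q) {r s : Fin 12}
    (h : ((q ^ 2 + q + 1 : ℕ) : ℤ) ∣ expo q r - expo q s) : r = s := by
  rcases Nat.lt_or_ge q 4 with h4 | h4
  · obtain rfl : q = 3 := by omega
    revert r s; decide +kernel
  · have hb : ∀ r : Fin 12, |expo q r| ≤ 2 * (q : ℤ) + 1 := by
      intro r; rw [abs_le]; fin_cases r <;> simp [expo] <;> omega
    have h0 : expo q r - expo q s = 0 := by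
      refine Int.eq_zero_of_abs_lt_dvd h ?_
      have := hb r
      have := hb s
      have h9 := abs_sub (expo q r) (expo q s)
      push_cast
      nlinarith
    fin_cases r <;> fin_cases s <;> simp [expo] at h0 ⊢ <;> omega

theorem expo_ne_zero {q : ℕ} (hq : 3 ≤ q) (r : Fin 12) :
    ¬ ((q ^ 2 + q + 1 : ℕ) : ℤ) ∣ expo q r := by
  intro h
  have h0 : expo q r = 0 := by
    refine Int.eq_zero_of_abs_lt_dvd h ?_
    have hb : |expo q r| ≤ 2 * (q : ℤ) + 1 := by
      rw [abs_le]; fin_cases r <;> simp [expo] <;> omega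
    push_cast
    nlinarith
  fin_cases r <;> simp [expo] at h0 <;> omega

theorem det_diag_eq {u0 u1 : K} (h0 : u0 ≠ 0) (h1 : u1 ≠ 0) :
    (![u1 / u0, u0 ^ 2 / u1, 1 / u0] : Fin 3 → K) 0 * (![u1 / u0, u0 ^ 2 / u1, 1 / u0] : Fin 3 → K) 1 *
      (![u1 / u0, u0 ^ 2 / u1, 1 / u0] : Fin 3 → K) 2 = 1 := by
  simp; field_simp

theorem mid_eq {a g : K} (ha : a ≠ 0) (hg : g ≠ 0) : g = (a * g) ^ 2 / (a * (a * g)) := by
  field_simp

theorem psiDiag (u0 u1 : K) (h0 : u0 ≠ 0) (h1 : u1 ≠ 0) (L : Matrix.SpecialLinearGroup (Fin 3) K)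
    (hL : L.1 = Matrix.diagonal ![u1 / u0, u0 ^ 2 / u1, 1 / u0]) :
    (psi L : Matrix chevG2.Idx chevG2.Idx K) =
      dmat chevG2 (fun s => u0 ^ tabG2.A 0 s * u1 ^ tabG2.A 1 s) := by
  rw [psi_val, ← psiMat_diagonal h0 h1]
  congr 1
  rw [Matrix.SpecialLinearGroup.coe_inv, hL, Matrix.adjugate_fin_three]
  ext i j
  fin_cases i <;> fin_cases j <;> simp <;> field_simp

/-- The main statement. -/
theorem exists_torus {F : Type*} [Field F] [Fintype F] (q : ℕ) (hF : Fintype.card F = q)
    (hq : 3 ≤ q) : ∃ H : Subgroup ↥(chevG2.group F), IsCyclic ↥H ∧ Nat.card ↥H = q ^ 2 + q + 1 ∧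
      Subgroup.centralizer (H : Set ↥(chevG2.group F)) = H := by
  classical
  set m := q ^ 2 + q + 1 with hm
  let K := AlgebraicClosure F
  let f : F →+* K := algebraMap F K
  have hfinj : Function.Injective f := f.injective
  have hq0 : (q : F) = 0 := by rw [← hF]; exact FiniteField.cast_card_eq_zero F
  have hq0K : (q : K) = 0 := by rw [← map_natCast f, hq0, map_zero]
  have : NeZero (m : K) := ⟨by simp [hm, hq0K]⟩
  obtain ⟨γ, hγ⟩ := HasEnoughRootsOfUnity.exists_primitiveRoot K m
  have hγm : γ ^ m = 1 := hγ.pow_eq_one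
  have hγ0 : γ ≠ 0 := hγ.ne_zero (by omega)
  have hq3 : γ ^ q ^ 3 = γ := by
    obtain ⟨t, rfl⟩ : ∃ t, q = t + 1 := ⟨q - 1, by omega⟩
    have : (t + 1) ^ 3 = m * t + 1 := by rw [hm]; ring
    rw [this, pow_succ, pow_mul, hγm, one_pow, one_mul]
  have hfix : ∀ y : K, y ^ q = y → ∃ a : F, f a = y := by
    intro y hy
    by_contra! hne
    let P : Polynomial K := Polynomial.X ^ q - Polynomial.X
    have hdeg : P.natDegree = q := FiniteField.X_pow_card_sub_X_natDegree_eq K (by omega)
    have hP : P ≠ 0 := FiniteField.X_pow_card_sub_X_ne_zero K (by omega)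
    have hsub : (insert y (Finset.univ.image f)).val ⊆ P.roots := by
      intro z hz
      rw [Polynomial.mem_roots hP]
      rcases Finset.mem_insert.mp hz with rfl | hz
      · simp [P, hy]
      · obtain ⟨a, -, rfl⟩ := Finset.mem_image.mp hz
        simp [P, ← map_pow, ← hF, FiniteField.pow_card]
    have := Polynomial.card_le_degree_of_subset_roots hsub
    rw [hdeg, Finset.card_insert_of_notMem (by simpa using hne),
      Finset.card_image_of_injective _ hfinj, Finset.card_univ, hF] at this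
    omega
  obtain ⟨p, hchar, n, hp, hqp⟩ := FiniteField.card' F
  have : Fact p.Prime := ⟨hp⟩
  have : CharP K p := charP_of_injective_algebraMap hfinj p
  rw [hF] at hqp
  let φ : K →+* K := iterateFrobenius K p n
  have hφ : ∀ y, φ y = y ^ q := fun y => by rw [hqp]; exact iterateFrobenius_def p n y
  have hφf : ∀ a, φ (f a) = f a := fun a => by rw [hφ, ← map_pow, ← hF, FiniteField.pow_card]
  -- the three conjugates
  set g1 := γ ^ q with hg1
  set g2 := γ ^ (q ^ 2) with hg2
  have p1 : γ ^ q = g1 := rfl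
  have p2 : g1 ^ q = g2 := by rw [hg1, hg2, ← pow_mul]; congr 1; ring
  have p3 : g2 ^ q = γ := by rw [hg2, ← pow_mul, show q ^ 2 * q = q ^ 3 by ring, hq3]
  have hprod : γ * g1 * g2 = 1 := by
    rw [← hγm, hg1, hg2, hm, pow_add, pow_add, pow_one]; ring
  obtain ⟨a1, ha1⟩ := hfix (γ + g1 + g2) (by
    rw [← hφ, map_add, map_add, hφ, hφ, hφ, p1, p2, p3]; ring)
  obtain ⟨a2, ha2⟩ := hfix (γ * g1 + γ * g2 + g1 * g2) (by
    rw [← hφ, map_add, map_add, map_mul, map_mul, map_mul, hφ, hφ, hφ, p1, p2, p3]; ring)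
  let C0 : Matrix.SpecialLinearGroup (Fin 3) F := ⟨!![0, 0, 1; 1, 0, -a2; 0, 1, a1], by
    rw [Matrix.det_fin_three]; simp⟩
  let gs : Fin 3 → K := ![γ, g1, g2]
  have hgs : ∀ i, gs i ^ 3 = f a1 * gs i ^ 2 - f a2 * gs i + 1 := by
    intro i
    rw [ha1, ha2]
    fin_cases i <;> simp [gs] <;> linear_combination hprod
  let V : Matrix (Fin 3) (Fin 3) K := Matrix.vandermonde gs
  have hgs_inj : Function.Injective gs := by
    have hlt : 1 < q ∧ q < m ∧ q ^ 2 < m ∧ q < q ^ 2 := ⟨by omega, by nlinarith, by omega, by nlinarith⟩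
    have key : ∀ i j : ℕ, i < m → j < m → γ ^ i = γ ^ j → i = j := fun i j hi hj h =>
      hγ.pow_inj hi hj h
    intro i j h
    fin_cases i <;> fin_cases j <;> simp [gs, hg1, hg2] at h <;> first
      | rfl
      | (exfalso
         rcases hlt with ⟨_, _, _, _⟩
         first
           | (have := key 1 q (by omega) (by omega) (by rw [pow_one]; exact h); omega)
           | (have := key 1 (q ^ 2) (by omega) (by omega) (by rw [pow_one]; exact h); omega)
           | (have := key q 1 (by omega) (by omega) (by rw [pow_one]; exact h); omega)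
           | (have := key (q ^ 2) 1 (by omega) (by omega) (by rw [pow_one]; exact h); omega)
           | (have := key q (q ^ 2) (by omega) (by omega) h; omega)
           | (have := key (q ^ 2) q (by omega) (by omega) h; omega))
  have hdetV : V.det ≠ 0 := Matrix.det_vandermonde_ne_zero_iff.mpr hgs_inj
  let S : Matrix (Fin 3) (Fin 3) K := Matrix.diagonal ![V.det⁻¹, 1, 1]
  let W : Matrix.SpecialLinearGroup (Fin 3) K := ⟨S * V, by
    rw [Matrix.det_mul, Matrix.det_diagonal, Fin.prod_univ_three]; simp [hdetV]⟩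
  let Dg : Matrix.SpecialLinearGroup (Fin 3) K := ⟨Matrix.diagonal gs, by
    rw [Matrix.det_diagonal, Fin.prod_univ_three]; simpa [gs] using hprod⟩
  have hVC : V * (C0.1.map f) = Matrix.diagonal gs * V := by
    ext i j
    rw [Matrix.mul_apply, Matrix.diagonal_mul, Fin.sum_univ_three]
    fin_cases j <;> simp [V, C0, Matrix.vandermonde] <;>
      first | ring1 | linear_combination -(hgs i)
  let mp := Matrix.SpecialLinearGroup.map (n := Fin 3) f
  have hWC : W * mp C0 = Dg * W := Subtype.ext (by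
    change S * V * C0.1.map f = Matrix.diagonal gs * (S * V)
    rw [mul_assoc, hVC, ← mul_assoc, ← mul_assoc, Matrix.diagonal_mul_diagonal,
      Matrix.diagonal_mul_diagonal]
    congr 2; funext i; ring)
  have hmp : mp C0 = W⁻¹ * Dg * W := by rw [mul_assoc, ← hWC, inv_mul_cancel_left]
  have hmpinj : Function.Injective mp := fun a b e => Subtype.ext (Matrix.ext fun i j => hfinj (by
    simpa [mp] using congrFun (congrFun (congrArg Subtype.val e) i) j))
  have hDpow : ∀ k : ℕ, (Dg ^ k).1 = Matrix.diagonal (gs ^ k) := fun k => by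
    rw [Matrix.SpecialLinearGroup.coe_pow]
    change Matrix.diagonal gs ^ k = _
    rw [Matrix.diagonal_pow]
  have hordC : orderOf C0 = m := by
    rw [← orderOf_injective mp hmpinj C0, hmp]
    have : orderOf (W⁻¹ * Dg * W) = orderOf Dg := by
      have h := orderOf_injective (MulAut.conj W⁻¹).toMonoidHom (MulAut.conj W⁻¹).injective Dg
      simpa using h
    rw [this]
    refine Nat.dvd_antisymm (orderOf_dvd_of_pow_eq_one (Subtype.ext ?_)) ?_
    · rw [hDpow, Matrix.SpecialLinearGroup.coe_one, ← Matrix.diagonal_one]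
      congr 1
      funext i
      fin_cases i <;> simp [gs, hg1, hg2, ← pow_mul, mul_comm _ m, pow_mul γ m, hγm]
    · refine hγ.dvd_of_pow_eq_one _ ?_
      have h := congrArg Subtype.val (pow_orderOf_eq_one Dg)
      rw [hDpow, Matrix.SpecialLinearGroup.coe_one] at h
      have h' := congrFun (congrFun h 0) 0
      simpa [gs] using h'
  let x : ↥(chevG2.group F) := ⟨psi C0, psi_mem_group C0⟩
  have hordx : orderOf x = m := by
    rw [← Subgroup.orderOf_coe]
    exact (orderOf_injective psi psi_injective C0).trans hordC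
  -- extension of scalars
  let ext' : GL chevG2.Idx F →* GL chevG2.Idx K := Matrix.GeneralLinearGroup.map (n := chevG2.Idx) f
  have hext_inj : Function.Injective ext' := fun a b e => Units.ext (Matrix.ext fun i j => hfinj (by
    simpa [ext'] using congrArg (fun z : GL chevG2.Idx K => (z : Matrix chevG2.Idx chevG2.Idx K) i j) e))
  have hext_group : ∀ g ∈ chevG2.group F, ext' g ∈ chevG2.group K := by
    intro g hg
    have : (chevG2.group F).map ext' ≤ chevG2.group K := by
      unfold ChevalleyDatum.group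
      rw [MonoidHom.map_closure, Subgroup.closure_le]
      rintro _ ⟨z, ⟨r, t, e⟩, rfl⟩
      refine Subgroup.subset_closure ⟨r, f t, ?_⟩
      change (z : Matrix chevG2.Idx chevG2.Idx F).map f = _
      rw [e]
      have := x_map (D := chevG2) f r.val t
      unfold ChevalleyDatum.x at this
      rwa [dif_pos r.isLt, dif_pos r.isLt] at this
    exact this ⟨g, hg, rfl⟩
  have hext_psi : ∀ M : Matrix.SpecialLinearGroup (Fin 3) F, ext' (psi M) = psi (mp M) := by
    intro M
    refine Units.ext ?_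
    change (psiMat M.1 (M⁻¹).1).map f = psiMat (mp M).1 (mp M)⁻¹.1
    rw [psiMat_map, ← map_inv mp M]
    rfl
  -- the diagonal element
  set c0 : K := γ ^ ((1 : ℤ) + q) with hc0
  set c1 : K := γ ^ ((2 : ℤ) + q) with hc1
  have hg2' : g2 = 1 / c0 := by
    rw [eq_div_iff (zpow_ne_zero _ hγ0), zpow_add₀ hγ0, zpow_one, zpow_natCast, ← hg1]
    linear_combination hprod
  have hDgd : (Dg : Matrix.SpecialLinearGroup (Fin 3) K).1 =
      Matrix.diagonal ![c1 / c0, c0 ^ 2 / c1, 1 / c0] := by
    change Matrix.diagonal gs = _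
    congr 1
    have e1 : c1 = γ * c0 := by
      rw [hc0, hc1, show (2 : ℤ) + q = 1 + (1 + q) by ring, zpow_add₀ hγ0, zpow_one]
    have hne : c0 ≠ 0 := zpow_ne_zero _ hγ0
    have e0 : c0 = γ * g1 := by
      rw [hc0, hg1, zpow_add₀ hγ0, zpow_one, zpow_natCast]
    have hg10 : g1 ≠ 0 := pow_ne_zero _ hγ0
    funext i
    fin_cases i <;> simp only [gs]
    · simp [e1, hne]
    · simp only [Fin.mk_one, Matrix.cons_val_one, Matrix.cons_val_zero, e1, e0]
      exact mid_eq hγ0 hg10
    · simp [hg2']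
  let d := psi Dg
  have hd_val := psiDiag c0 c1 (zpow_ne_zero _ hγ0) (zpow_ne_zero _ hγ0) Dg hDgd
  have htor : ∀ s, tor chevG2 tabG2 (fun i => if i = 0 then c0 else c1) s =
      c0 ^ tabG2.A 0 s * c1 ^ tabG2.A 1 s := by
    intro s
    simp [tor, show chevG2.rank = 2 from rfl, Finset.prod_range_succ]
  have hd : d ∈ chevG2.diagonalSubgroup K := by
    refine goodG2.mem_diag_of_dmat (psi_mem_group Dg) (χ := tor chevG2 tabG2 _)
      (goodG2.isChar_tor (c := fun i => if i = 0 then c0 else c1) ?_) ?_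
    · intro i _; split <;> exact zpow_ne_zero _ hγ0
    · rw [hd_val]; exact (dmat_congr fun s _ => htor s).symm
  have hA : ∀ s : Fin 12, (1 + (q : ℤ)) * tabG2.A 0 s + (2 + q) * tabG2.A 1 s = expo q s := by
    intro s
    have hA : ∀ s : Fin 12, (tabG2.A 0 s, tabG2.A 1 s) =
        (![(0, -1), (-3, 1), (-1, 0), (1, -1), (-2, 1), (3, -2), (-3, 2), (2, -1), (-1, 1), (1, 0),
          (3, -1), (0, 1)] : Fin 12 → ℤ × ℤ) s := by decide +kernel
    rw [show tabG2.A 0 s.val = _ from congrArg Prod.fst (hA s),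
      show tabG2.A 1 s.val = _ from congrArg Prod.snd (hA s)]
    fin_cases s <;> simp [expo] <;> ring
  have hchi : ∀ s : Fin 12, c0 ^ tabG2.A 0 s * c1 ^ tabG2.A 1 s = γ ^ expo q s := by
    intro s
    rw [hc0, hc1, ← zpow_mul, ← zpow_mul, ← zpow_add₀ hγ0, hA s]
  have hzeq : ∀ e : ℤ, γ ^ e = 1 → ((m : ℕ) : ℤ) ∣ e := fun e h => (hγ.zpow_eq_one_iff_dvd e).mp h
  refine ⟨Subgroup.zpowers x, inferInstance, by rw [Nat.card_zpowers, hordx], le_antisymm ?_ ?_⟩
  swap
  · exact Subgroup.le_centralizer _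
  intro g hg
  have hgx : g.val * psi C0 = psi C0 * g.val := by
    have := (Subgroup.mem_centralizer_iff.mp hg x (Subgroup.mem_zpowers x)).symm
    exact congrArg Subtype.val this
  set g' := psi W * ext' g.val * (psi W)⁻¹ with hg'
  have hxK : psi W * ext' (psi C0) * (psi W)⁻¹ = d := by
    rw [hext_psi, hmp, map_mul, map_mul, map_inv]; group; rfl
  have hcomm : g' * d = d * g' := by
    have h := congrArg (fun z => psi W * z * (psi W)⁻¹) (congrArg ext' hgx)
    simp only [map_mul] at h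
    rw [← hxK, hg']
    calc psi W * ext' g.val * (psi W)⁻¹ * (psi W * ext' (psi C0) * (psi W)⁻¹)
        = psi W * (ext' g.val * ext' (psi C0)) * (psi W)⁻¹ := by group
      _ = _ := h
      _ = _ := by group
  have hdiag := centralizer_regular goodG2 hd (χ := fun s => c0 ^ tabG2.A 0 s * c1 ^ tabG2.A 1 s)
    hd_val (by
      intro r s hr hs h
      have h1 : γ ^ (expo q ⟨r, hr⟩ - expo q ⟨s, hs⟩) = 1 := by
        rw [zpow_sub₀ hγ0, ← hchi, ← hchi]
        rw [div_eq_one_iff_eq (mul_ne_zero (zpow_ne_zero _ (zpow_ne_zero _ hγ0))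
          (zpow_ne_zero _ (zpow_ne_zero _ hγ0)))]
        exact h
      exact congrArg Fin.val (expo_injective hq (r := ⟨r, hr⟩) (s := ⟨s, hs⟩) (hzeq _ h1)))
    (by
      intro r hr h
      exact expo_ne_zero hq ⟨r, hr⟩ (hzeq _ ((hchi ⟨r, hr⟩).symm.trans h)))
    (mul_mem (mul_mem (psi_mem_group W) (hext_group _ g.2)) (inv_mem (psi_mem_group W))) hcomm
  obtain ⟨c, hc, hcv⟩ := goodG2.exists_tor hdiag
  let L : Matrix.SpecialLinearGroup (Fin 3) K :=
    ⟨Matrix.diagonal ![c 1 / c 0, c 0 ^ 2 / c 1, 1 / c 0], by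
      rw [Matrix.det_diagonal, Fin.prod_univ_three]
      exact det_diag_eq (hc 0) (hc 1)⟩
  have hgL : g' = psi L := Units.ext (by
    rw [hcv, psiDiag (c 0) (c 1) (hc 0) (hc 1) L rfl]
    exact dmat_congr fun s _ => by
      simp [tor, show chevG2.rank = 2 from rfl, Finset.prod_range_succ])
  set M := W⁻¹ * L * W with hM
  have hgM : ext' g.val = psi M := by
    rw [hM, map_mul, map_mul, map_inv, ← hgL, hg']; group
  let M0 : Matrix (Fin 3) (Fin 3) F := Matrix.of fun i j => (g.val : Matrix chevG2.Idx chevG2.Idx F)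
    (idxEquiv.symm (.inr (.inl i))) (idxEquiv.symm (.inr (.inl j)))
  have hM0 : M.1 = M0.map f := by
    ext i j
    have h := congrArg (fun z : GL chevG2.Idx K => (z : Matrix chevG2.Idx chevG2.Idx K)
      (idxEquiv.symm (.inr (.inl i))) (idxEquiv.symm (.inr (.inl j)))) hgM
    simp only [psi_val, (psiMat_natural _ _).2] at h
    exact h.symm
  have hdet0 : M0.det = 1 := hfinj (by
    rw [map_one, ← M.2, hM0]; exact RingHom.map_det f M0)
  let N0 : Matrix.SpecialLinearGroup (Fin 3) F := ⟨M0, hdet0⟩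
  have hmpN : mp N0 = M := Subtype.ext hM0.symm
  have hrow : ∀ i, ∑ k, V i k * f (M0 k 0) = L.1 i i := by
    intro i
    have h := congrArg Subtype.val (show W * M = L * W by rw [hM, mul_assoc W⁻¹, mul_inv_cancel_left])
    rw [Matrix.SpecialLinearGroup.coe_mul W M, Matrix.SpecialLinearGroup.coe_mul L W, hM0] at h
    change S * V * M0.map f = L.1 * (S * V) at h
    have hS : ∀ k, ![V.det⁻¹, 1, 1] k ≠ (0 : K) := fun k => by fin_cases k <;> simp [hdetV]
    have h0 := congrFun (congrFun h i) 0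
    rw [mul_assoc, Matrix.diagonal_mul, show L.1 = Matrix.diagonal fun k => L.1 k k by
      ext a b; by_cases hab : a = b
      · subst hab; simp
      · simp [L, hab], Matrix.diagonal_mul, Matrix.diagonal_mul, mul_left_comm] at h0
    have h1 := mul_left_cancel₀ (hS i) h0
    simpa [Matrix.mul_apply, V, Matrix.vandermonde] using h1
  set l := ∑ k : Fin 3, γ ^ (k : ℕ) * f (M0 k 0) with hl
  have hl0 : L.1 0 0 = l := by rw [← hrow 0]; simp [V, gs, Matrix.vandermonde, hl]
  have hl1 : L.1 1 1 = l ^ q := by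
    rw [← hrow 1, hl, ← hφ, map_sum]
    simp [V, gs, Matrix.vandermonde, map_mul, map_pow, hφf, hφ γ, p1]
  have hl2 : L.1 2 2 = l ^ (q ^ 2) := by
    rw [← hrow 2, hl, show q ^ 2 = q * q by ring, pow_mul, ← hφ, ← hφ, map_sum, map_sum]
    simp [V, gs, Matrix.vandermonde, map_mul, map_pow, hφf, hφ γ, hφ g1, p1, p2]
  have hlm : l ^ m = 1 := by
    have hd1 := L.2
    rw [Matrix.det_fin_three] at hd1
    have e01 : L.1 0 1 = 0 := Matrix.diagonal_apply_ne _ (by decide)
    have e02 : L.1 0 2 = 0 := Matrix.diagonal_apply_ne _ (by decide)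
    have e12 : L.1 1 2 = 0 := Matrix.diagonal_apply_ne _ (by decide)
    rw [e01, e02, e12, hl0, hl1, hl2] at hd1
    rw [hm, pow_add, pow_add, pow_one]
    linear_combination hd1
  obtain ⟨k, -, hk⟩ := hγ.eq_pow_of_pow_eq_one hlm
  have hLD : L = Dg ^ k := Subtype.ext (by
    rw [hDpow]
    ext a b
    by_cases hab : a = b
    · subst hab
      fin_cases a
      · simp only [Fin.zero_eta, Matrix.diagonal_apply_eq]; rw [hl0, ← hk]; rfl
      · simp only [Fin.mk_one, Matrix.diagonal_apply_eq]; rw [hl1, ← hk]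
        simp [gs, hg1, ← pow_mul, mul_comm k q]
      · simp only [Fin.reduceFinMk, Matrix.diagonal_apply_eq]; rw [hl2, ← hk]
        simp [gs, hg2, ← pow_mul, mul_comm k]
    · rw [Matrix.diagonal_apply_ne _ hab]; exact Matrix.diagonal_apply_ne _ hab)
  have hN0 : N0 = C0 ^ k := hmpinj (by
    rw [map_pow, hmp, hmpN, hM, hLD]
    have := map_pow (MulAut.conj W⁻¹).toMonoidHom Dg k
    simpa using this)
  refine ⟨(k : ℤ), Subtype.ext (hext_inj ?_)⟩
  change ext' ((x ^ (k : ℤ) : ↥(chevG2.group F)) : GL chevG2.Idx F) = ext' g.val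
  rw [hgM, ← hmpN, hN0, zpow_natCast, SubgroupClass.coe_pow, ← map_pow psi, hext_psi]

end Cfsg.Agent.KnownA.G2Torus
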