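import Cfsg.Prelude.Def_ChevG2
import Cfsg.Agent.Lib.Chev.All
import Cfsg.Agent.Lib.Chev.Eval
import Cfsg.Agent.Lib.Chev.TorusCard
import Cfsg.Agent.Lib.Chev.Unipotent
import Mathlib

/-!
A homomorphism from `SL(3)` into the Chevalley group of type `G₂` in its adjoint representation.
-/

set_option autoImplicit false

namespace Cfsg.Agent.KnownA.G2Torus

open Cfsg.Lie Cfsg.Agent.Lib.Chev
open scoped Matrix

variable {F : Type*} [CommRing F]

/-- The coordinates of the adjoint part: `inl i` for the torus, `inr (i, j)` for `e_ij`. -/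
abbrev AdjIdx : Type := Fin 2 ⊕ Fin 6

/-- The pair of an off-diagonal position. -/
def pos : Fin 6 → Fin 3 × Fin 3 := ![(0, 1), (1, 2), (0, 2), (1, 0), (2, 1), (2, 0)]

/-- The basis of the trace zero matrices. -/
def bm (F : Type*) [CommRing F] : AdjIdx → Matrix (Fin 3) (Fin 3) F
  | .inl i => (![!![-1, 0, 0; 0, 2, 0; 0, 0, -1], !![1, 0, 0; 0, -1, 0; 0, 0, 0]] :
      Fin 2 → Matrix (Fin 3) (Fin 3) F) i
  | .inr k => Matrix.single (pos k).1 (pos k).2 1

/-- The coordinates on the trace zero matrices. -/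
def coord (F : Type*) [CommRing F] (Y : Matrix (Fin 3) (Fin 3) F) : AdjIdx → F
  | .inl i => (![Y 0 0 + Y 1 1, 2 * Y 0 0 + Y 1 1] : Fin 2 → F) i
  | .inr k => Y (pos k).1 (pos k).2

/-- The adjoint action. -/
def adMat (g gi : Matrix (Fin 3) (Fin 3) F) : Matrix AdjIdx AdjIdx F :=
  Matrix.of fun r c => coord F (g * bm F c * gi) r

theorem sum_coord (Z : Matrix (Fin 3) (Fin 3) F) (hZ : Z.trace = 0) :
    ∑ c, coord F Z c • bm F c = Z := by
  have h22 : Z 2 2 = -(Z 0 0 + Z 1 1) := by
    simp [Matrix.trace, Fin.sum_univ_three] at hZ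
    linear_combination hZ
  rw [Fintype.sum_sum_type, Fin.sum_univ_two, Fin.sum_univ_six]
  ext i j
  fin_cases i <;> fin_cases j <;> simp [coord, bm, pos, Matrix.single, h22] <;> ring

theorem adMat_mul (g gi h hi : Matrix (Fin 3) (Fin 3) F) (hh : hi * h = 1) :
    adMat g gi * adMat h hi = adMat (g * h) (hi * gi) := by
  ext r c
  have htr : (h * bm F c * hi).trace = 0 := by
    rw [Matrix.trace_mul_comm, ← mul_assoc, hh, one_mul]
    rcases c with i | k
    · fin_cases i <;> simp [bm, Matrix.trace, Fin.sum_univ_three] <;> ring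
    · fin_cases k <;> simp [bm, pos, Matrix.trace, Fin.sum_univ_three, Matrix.single]
  have e : g * h * bm F c * (hi * gi) = ∑ k, coord F (h * bm F c * hi) k • (g * bm F k * gi) := by
    rw [show g * h * bm F c * (hi * gi) = g * (h * bm F c * hi) * gi by simp only [mul_assoc]]
    conv_lhs => rw [← sum_coord _ htr]
    simp only [Matrix.mul_sum, Matrix.sum_mul, Matrix.mul_smul, Matrix.smul_mul]
  simp only [Matrix.mul_apply, adMat, Matrix.of_apply, e]
  rcases r with i | k
  · fin_cases i <;>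
      simp [coord, Matrix.sum_apply, Fintype.sum_sum_type, Fin.sum_univ_two, Fin.sum_univ_six] <;> ring
  · simp [coord, Matrix.sum_apply, Fintype.sum_sum_type, Fin.sum_univ_two, Fin.sum_univ_six]
    ring

/-- The position of each basis vector: the adjoint part, the natural module and its dual. -/
def idxMap : chevG2.Idx → AdjIdx ⊕ (Fin 3 ⊕ Fin 3)
  | .inl i => .inl (.inl i)
  | .inr r => (![.inl (.inr 5), .inl (.inr 4), .inr (.inl 2), .inr (.inr 0), .inr (.inr 1),
      .inl (.inr 3), .inl (.inr 0), .inr (.inl 1), .inr (.inl 0), .inr (.inr 2), .inl (.inr 1),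
      .inl (.inr 2)] : Fin 12 → AdjIdx ⊕ (Fin 3 ⊕ Fin 3)) r

theorem idxMap_bijective : Function.Bijective idxMap := by decide +kernel

/-- The coordinate change. -/
noncomputable def idxEquiv : chevG2.Idx ≃ AdjIdx ⊕ (Fin 3 ⊕ Fin 3) :=
  Equiv.ofBijective idxMap idxMap_bijective

/-- The blocks. -/
def bigMat (g gi : Matrix (Fin 3) (Fin 3) F) :
    Matrix (AdjIdx ⊕ (Fin 3 ⊕ Fin 3)) (AdjIdx ⊕ (Fin 3 ⊕ Fin 3)) F :=
  Matrix.fromBlocks (adMat g gi) 0 0 (Matrix.fromBlocks g 0 0 giᵀ)

/-- The image matrix. -/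
noncomputable def psiMat (g gi : Matrix (Fin 3) (Fin 3) F) : Matrix chevG2.Idx chevG2.Idx F :=
  (bigMat g gi).submatrix idxEquiv idxEquiv

theorem psiMat_mul (g gi h hi : Matrix (Fin 3) (Fin 3) F) (hh : hi * h = 1) :
    psiMat g gi * psiMat h hi = psiMat (g * h) (hi * gi) := by
  rw [psiMat, psiMat, psiMat, Matrix.submatrix_mul_equiv, bigMat, bigMat, bigMat,
    Matrix.fromBlocks_multiply, Matrix.fromBlocks_multiply]
  simp [adMat_mul g gi h hi hh, Matrix.transpose_mul]

theorem psiMat_one : psiMat (1 : Matrix (Fin 3) (Fin 3) F) 1 = 1 := by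
  have e : adMat (1 : Matrix (Fin 3) (Fin 3) F) 1 = 1 := by
    ext r c
    rcases r with i | k <;> rcases c with j | l
    · fin_cases i <;> fin_cases j <;> simp [adMat, coord, bm] <;> ring
    · fin_cases i <;> fin_cases l <;> simp [adMat, coord, bm, pos, Matrix.single]
    · fin_cases k <;> fin_cases j <;> simp [adMat, coord, bm, pos]
    · fin_cases k <;> fin_cases l <;> simp [adMat, coord, bm, pos, Matrix.single]
  rw [psiMat, bigMat, e, Matrix.transpose_one, Matrix.fromBlocks_one, Matrix.fromBlocks_one]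
  exact Matrix.submatrix_one_equiv _

/-- The homomorphism. -/
noncomputable def psi : Matrix.SpecialLinearGroup (Fin 3) F →* GL chevG2.Idx F where
  toFun g := ⟨psiMat g.1 (g⁻¹ : Matrix.SpecialLinearGroup (Fin 3) F).1,
    psiMat (g⁻¹ : Matrix.SpecialLinearGroup (Fin 3) F).1 g.1,
    by
      rw [psiMat_mul _ _ _ _ (by rw [← Matrix.SpecialLinearGroup.coe_mul, mul_inv_cancel]; rfl),
        ← Matrix.SpecialLinearGroup.coe_mul, mul_inv_cancel]
      exact psiMat_one,
    by
      rw [psiMat_mul _ _ _ _ (by rw [← Matrix.SpecialLinearGroup.coe_mul, inv_mul_cancel]; rfl),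
        ← Matrix.SpecialLinearGroup.coe_mul, inv_mul_cancel]
      exact psiMat_one⟩
  map_one' := Units.ext (by simp [psiMat_one])
  map_mul' g h := Units.ext (by
    simp only [Units.val_mul]
    rw [psiMat_mul _ _ _ _ (by rw [← Matrix.SpecialLinearGroup.coe_mul, inv_mul_cancel]; rfl),
      mul_inv_rev, Matrix.SpecialLinearGroup.coe_mul, Matrix.SpecialLinearGroup.coe_mul])

theorem psi_val (g : Matrix.SpecialLinearGroup (Fin 3) F) :
    (psi g : Matrix chevG2.Idx chevG2.Idx F) =
      psiMat g.1 (g⁻¹ : Matrix.SpecialLinearGroup (Fin 3) F).1 := rfl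

theorem adMat_map {K : Type*} [CommRing K] (f : F →+* K) (g gi : Matrix (Fin 3) (Fin 3) F) :
    (adMat g gi).map f = adMat (g.map f) (gi.map f) := by
  ext r c
  have hb : (bm F c).map f = bm K c := by
    ext a b
    rcases c with i | k
    · fin_cases i <;> fin_cases a <;> fin_cases b <;> simp [bm] <;> exact map_ofNat f 2
    · fin_cases k <;> fin_cases a <;> fin_cases b <;> simp [bm, pos, Matrix.single]
  have hm : (g * bm F c * gi).map f = g.map f * bm K c * gi.map f := by
    rw [Matrix.map_mul, Matrix.map_mul, hb]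
  simp only [Matrix.map_apply, adMat, Matrix.of_apply, ← hm]
  rcases r with i | k
  · fin_cases i <;> simp [coord, map_add, map_mul] <;> rw [show f 2 = 2 from map_ofNat f 2]
  · simp [coord]

theorem psiMat_map {K : Type*} [CommRing K] (f : F →+* K) (g gi : Matrix (Fin 3) (Fin 3) F) :
    (psiMat g gi).map f = psiMat (g.map f) (gi.map f) := by
  rw [psiMat, psiMat, ← Matrix.submatrix_map, bigMat, bigMat, Matrix.fromBlocks_map,
    Matrix.fromBlocks_map, adMat_map, Matrix.transpose_map]
  simp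

/-- The root values of a diagonal element of `SL(3)`. -/
theorem psiMat_diagonal {K : Type*} [Field K] {c0 c1 : K} (h0 : c0 ≠ 0) (h1 : c1 ≠ 0) :
    psiMat (Matrix.diagonal ![c1 / c0, c0 ^ 2 / c1, 1 / c0])
        (Matrix.diagonal ![c0 / c1, c1 / c0 ^ 2, c0]) =
      dmat chevG2 (fun s => c0 ^ tabG2.A 0 s * c1 ^ tabG2.A 1 s) := by
  have e : adMat (Matrix.diagonal ![c1 / c0, c0 ^ 2 / c1, 1 / c0])
      (Matrix.diagonal ![c0 / c1, c1 / c0 ^ 2, c0]) =
      Matrix.diagonal (Sum.elim (fun _ => (1 : K)) (fun k =>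
        ![c1 / c0, c0 ^ 2 / c1, 1 / c0] (pos k).1 * ![c0 / c1, c1 / c0 ^ 2, c0] (pos k).2)) := by
    ext r c
    rcases r with i | k <;> rcases c with j | l
    · fin_cases i <;> fin_cases j <;> simp [adMat, coord, bm] <;> field_simp <;> ring
    · fin_cases i <;> fin_cases l <;> simp [adMat, coord, bm, pos, Matrix.single]
    · fin_cases k <;> fin_cases j <;> simp [adMat, coord, bm, pos]
    · fin_cases k <;> fin_cases l <;> simp [adMat, coord, bm, pos, Matrix.single]
  rw [psiMat, bigMat, e, Matrix.diagonal_transpose, Matrix.fromBlocks_diagonal,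
    Matrix.fromBlocks_diagonal, Matrix.submatrix_diagonal_equiv, dmat]
  congr 1
  funext x
  change Sum.elim _ _ (idxMap x) = _
  rcases x with i | r
  · rfl
  · have key : ∀ r : Fin 12, Sum.elim
        (Sum.elim (fun _ => (1 : K)) fun k =>
          ![c1 / c0, c0 ^ 2 / c1, 1 / c0] (pos k).1 * ![c0 / c1, c1 / c0 ^ 2, c0] (pos k).2)
        (Sum.elim ![c1 / c0, c0 ^ 2 / c1, 1 / c0] ![c0 / c1, c1 / c0 ^ 2, c0])
        ((![.inl (.inr 5), .inl (.inr 4), .inr (.inl 2), .inr (.inr 0), .inr (.inr 1),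
          .inl (.inr 3), .inl (.inr 0), .inr (.inl 1), .inr (.inl 0), .inr (.inr 2), .inl (.inr 1),
          .inl (.inr 2)] : Fin 12 → AdjIdx ⊕ (Fin 3 ⊕ Fin 3)) r) =
        c0 ^ tabG2.A 0 r.val * c1 ^ tabG2.A 1 r.val := by
      have hA : ∀ s : Fin 12, (tabG2.A 0 s, tabG2.A 1 s) =
          (![(0, -1), (-3, 1), (-1, 0), (1, -1), (-2, 1), (3, -2), (-3, 2), (2, -1), (-1, 1), (1, 0),
            (3, -1), (0, 1)] : Fin 12 → ℤ × ℤ) s := by decide +kernel
      intro r
      rw [show tabG2.A 0 r.val = _ from congrArg Prod.fst (hA r),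
        show tabG2.A 1 r.val = _ from congrArg Prod.snd (hA r)]
      fin_cases r <;> simp [pos, zpow_neg] <;> field_simp
    exact key r

/-- The root of a transvection. -/
def rootOf : Fin 6 → Fin 12 := ![6, 10, 11, 5, 1, 0]

/-- The transvection with parameter `a`. -/
def tv (R : Type*) [CommRing R] (k : Fin 6) (a : R) : Matrix (Fin 3) (Fin 3) R :=
  1 + Matrix.single (pos k).1 (pos k).2 a

theorem check_table : ∀ (k : Fin 6) (row col : chevG2.Idx),
    bigMat (tv ℤ k 1) (tv ℤ k (-1)) (idxMap row) (idxMap col) =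
      coef (xcol chevG2 tabG2 (rootOf k).val 1 (cd chevG2 col)) (cd chevG2 row) := by
  decide +kernel

theorem bas_cd {F : Type*} [Field F] (col : chevG2.Idx) :
    bas chevG2 F (cd chevG2 col) = Pi.single col 1 := by
  rcases col with i | r
  · exact bas_inl i
  · exact bas_inr r

theorem psiMat_unit {F : Type*} [Field F] (k : Fin 6) :
    psiMat (tv F k 1) (tv F k (-1)) = chevG2.x F (rootOf k).val 1 := by
  have e : ∀ a : ℤ, (tv ℤ k a).map (Int.castRingHom F) = tv F k (a : F) := by
    intro a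
    rw [tv, tv, Matrix.map_add _ (map_add _), Matrix.map_one _ (map_zero _) (map_one _),
      Matrix.map_single]
    simp
  have h := psiMat_map (Int.castRingHom F) (tv ℤ k 1) (tv ℤ k (-1))
  rw [e, e, Int.cast_one, Int.cast_neg, Int.cast_one] at h
  rw [← h]
  ext row col
  have hs := (goodG2.xcol_spec (F := F) (r := (rootOf k).val) (a := cd chevG2 col) (rootOf k).isLt
    (cd_lt col) 1).2
  have h2 := congrFun hs row
  rw [bas_cd, Matrix.mulVec_single_one, vecOf_apply, Int.cast_one] at h2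
  rw [Matrix.map_apply]
  change (Int.castRingHom F) (bigMat _ _ (idxMap row) (idxMap col)) = _
  rw [check_table]
  exact h2

/-- The torus parameters scaling a given transvection. -/
def scale : Fin 6 → ℤ × ℤ := ![(1, 2), (0, -1), (0, 1), (-1, -2), (0, 1), (0, -1)]

theorem scale_spec : ∀ k : Fin 6,
    (scale k).1 * tabG2.A 0 (rootOf k).val + (scale k).2 * tabG2.A 1 (rootOf k).val = 1 := by
  decide +kernel

theorem psiMat_transvection {F : Type*} [Field F] (k : Fin 6) (t : F) :
    psiMat (Matrix.transvection (pos k).1 (pos k).2 t) (Matrix.transvection (pos k).1 (pos k).2 (-t)) =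
      chevG2.xMat F (rootOf k) t := by
  have ex : chevG2.xMat F (rootOf k) t = chevG2.x F (rootOf k).val t := (goodG2.x_eq (rootOf k).isLt t).symm
  rw [ex]
  by_cases ht : t = 0
  · subst ht
    rw [neg_zero, Matrix.transvection_zero, goodG2.x_zero (rootOf k).isLt, psiMat_one]
  set c0 := t ^ (scale k).1 with hc0
  set c1 := t ^ (scale k).2 with hc1
  have h0 : c0 ≠ 0 := zpow_ne_zero _ ht
  have h1 : c1 ≠ 0 := zpow_ne_zero _ ht
  set dg := Matrix.diagonal ![c1 / c0, c0 ^ 2 / c1, 1 / c0] with hdg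
  set di := Matrix.diagonal ![c0 / c1, c1 / c0 ^ 2, c0] with hdi
  have hid : di * dg = 1 := by
    rw [hdg, hdi, Matrix.diagonal_mul_diagonal, ← Matrix.diagonal_one]
    congr 1; funext i; fin_cases i <;> simp <;> field_simp
  have hdi' : dg * di = 1 := by
    rw [hdg, hdi, Matrix.diagonal_mul_diagonal, ← Matrix.diagonal_one]
    congr 1; funext i; fin_cases i <;> simp <;> field_simp
  have ht1 : dg * tv F k 1 * di = Matrix.transvection (pos k).1 (pos k).2 t ∧
      dg * tv F k (-1) * di = Matrix.transvection (pos k).1 (pos k).2 (-t) := by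
    constructor <;>
    · rw [tv, Matrix.mul_add, Matrix.add_mul, mul_one, hdi', Matrix.transvection]
      congr 1
      ext a b
      rw [hdg, hdi, Matrix.mul_diagonal, Matrix.diagonal_mul]
      fin_cases k <;> fin_cases a <;> fin_cases b <;>
        simp [pos, Matrix.single, hc0, hc1, scale, zpow_neg] <;> field_simp
  have htv : tv F k (-1) * tv F k 1 = 1 := by
    fin_cases k <;> ext a b <;> fin_cases a <;> fin_cases b <;>
      simp [tv, pos, Matrix.mul_apply, Fin.sum_univ_three, Matrix.single]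
  rw [← ht1.1, ← ht1.2, mul_assoc dg (tv F k (-1)) di,
    ← psiMat_mul (dg * tv F k 1) (tv F k (-1) * di) di dg hdi',
    ← psiMat_mul dg di (tv F k 1) (tv F k (-1)) htv, psiMat_unit]
  have hD := psiMat_diagonal h0 h1
  rw [← hdg, ← hdi] at hD
  have hi : psiMat di dg = (psiMat dg di)⁻¹ := by
    refine (Matrix.inv_eq_right_inv ?_).symm
    rw [psiMat_mul _ _ _ _ hdi', hdi', psiMat_one]
  let g : GL chevG2.Idx F := ⟨psiMat dg di, psiMat di dg,
    by rw [psiMat_mul _ _ _ _ hdi', hdi', psiMat_one],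
    by rw [psiMat_mul _ _ _ _ hid, hid, psiMat_one]⟩
  let c : ℕ → F := fun i => if i = 0 then c0 else c1
  have hc : ∀ i < chevG2.rank, c i ≠ 0 := fun i _ => by simp only [c]; split <;> assumption
  have htor : ∀ s, tor chevG2 tabG2 c s = c0 ^ tabG2.A 0 s * c1 ^ tabG2.A 1 s := by
    intro s
    simp [tor, c, show chevG2.rank = 2 from rfl, Finset.prod_range_succ]
  have hgv : (g : Matrix chevG2.Idx chevG2.Idx F) = dmat chevG2 (tor chevG2 tabG2 c) := by
    show psiMat dg di = _
    rw [hD]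
    exact dmat_congr fun s _ => (htor s).symm
  have hX := congrArg (fun z : GL chevG2.Idx F => (z : Matrix chevG2.Idx chevG2.Idx F))
    (goodG2.diag_conj_X hgv (goodG2.isChar_tor hc) (rootOf k).isLt 1)
  simp only [Units.val_mul, Good.X_val, mul_one] at hX
  rw [show ((g⁻¹ : GL chevG2.Idx F) : Matrix chevG2.Idx chevG2.Idx F) = psiMat di dg from rfl,
    show (g : Matrix chevG2.Idx chevG2.Idx F) = psiMat dg di from rfl] at hX
  rw [hX]
  have hA := scale_spec k
  rw [htor, hc0, hc1, ← zpow_mul, ← zpow_mul, ← zpow_add₀ ht, hA, zpow_one]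

end Cfsg.Agent.KnownA.G2Torus
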